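import Mathlib

set_option autoImplicit false

/-!
Hecke operators of a transitive action on a representation: for a `G`-invariant integer kernel
`k` on `Ω × Ω` and a base point `a` with stabiliser `H`, the operator
`T_k = |H|⁻¹ ∑ g, k a (g • a) • ρ g`.  The assignment `k ↦ T_k` is additive and multiplicative,
so `T_k` is integral over `ℤ` (Cayley–Hamilton) and its trace is an algebraic integer.
-/

namespace Cfsg.Agent.Lib.Helper12.Hecke

open MulAction

/-- the trace of an integral endomorphism is an algebraic integer -/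
theorem isIntegral_trace_of_isIntegral {V : Type*} [AddCommGroup V] [Module ℂ V]
    [FiniteDimensional ℂ V] (f : Module.End ℂ V) (hf : IsIntegral ℤ f) :
    IsIntegral ℤ (LinearMap.trace ℂ V f) := by
  obtain ⟨q, hq, hqf⟩ := hf
  rw [Module.End.trace_eq_sum_roots_charpoly_of_splits (IsAlgClosed.splits _)]
  apply IsIntegral.multiset_sum
  intro μ hμ
  have hroot : f.charpoly.IsRoot μ := (Polynomial.mem_roots'.mp hμ).2
  have hev : f.HasEigenvalue μ := (Module.End.hasEigenvalue_iff_isRoot_charpoly f μ).mpr hroot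
  obtain ⟨v, hv⟩ := hev.exists_hasEigenvector
  have h1 := Module.End.aeval_apply_of_hasEigenvector (p := q.map (algebraMap ℤ ℂ)) hv
  rw [Polynomial.aeval_map_algebraMap] at h1
  have h0 : Polynomial.aeval f q = 0 := by rw [Polynomial.aeval_def]; exact hqf
  rw [h0, LinearMap.zero_apply] at h1
  have h2 : (q.map (algebraMap ℤ ℂ)).eval μ = 0 := by
    rcases smul_eq_zero.mp h1.symm with h | h
    · exact h
    · exact absurd h hv.2
  exact ⟨q, hq, by rw [Polynomial.eval₂_eq_eval_map]; exact h2⟩

section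

variable {G : Type*} [Group G] [Fintype G] {Ω : Type*} [Fintype Ω] [MulAction G Ω]
  [IsPretransitive G Ω]

omit [Fintype Ω] in
theorem card_fiber (a y : Ω) [DecidablePred (fun g : G => g • a = y)] :
    (Finset.univ.filter (fun g : G => g • a = y)).card = Nat.card (stabilizer G a) := by
  obtain ⟨g0, hg0⟩ := exists_smul_eq G a y
  rw [← Nat.card_eq_finsetCard]
  apply Nat.card_congr
  exact
    { toFun := fun g => ⟨g0⁻¹ * g.1, by
        have := (Finset.mem_filter.mp g.2).2
        rw [mem_stabilizer_iff, mul_smul, this, ← hg0, inv_smul_smul]⟩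
      invFun := fun h => ⟨g0 * h.1, by
        rw [Finset.mem_filter]
        refine ⟨Finset.mem_univ _, ?_⟩
        rw [mul_smul, mem_stabilizer_iff.mp h.2, hg0]⟩
      left_inv := fun g => by ext; simp
      right_inv := fun h => by ext; simp }

/-- summing over the group a function of `g • a` -/
theorem sum_smul_eq {M : Type*} [AddCommMonoid M] (a : Ω) (F : Ω → M) :
    ∑ g : G, F (g • a) = Nat.card (stabilizer G a) • ∑ y : Ω, F y := by
  classical
  rw [← Finset.sum_fiberwise (s := Finset.univ) (g := fun g : G => g • a)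
    (f := fun g => F (g • a)), Finset.smul_sum]
  refine Finset.sum_congr rfl (fun y _ => ?_)
  have h1 : ∀ g ∈ Finset.univ.filter (fun g : G => g • a = y), F (g • a) = F y := by
    intro g hg
    rw [(Finset.mem_filter.mp hg).2]
  rw [Finset.sum_congr rfl h1, Finset.sum_const, card_fiber]

variable {V : Type*} [AddCommGroup V] [Module ℂ V] (ρ : Representation ℂ G V) (a : Ω)

/-- the Hecke operator of an integer kernel -/
noncomputable def heckeHom : Matrix Ω Ω ℤ →+ Module.End ℂ V where
  toFun k := (Nat.card (stabilizer G a) : ℂ)⁻¹ • ∑ g : G, (k a (g • a) : ℂ) • ρ g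
  map_zero' := by simp
  map_add' k k' := by
    rw [← smul_add, ← Finset.sum_add_distrib]
    congr 1
    refine Finset.sum_congr rfl (fun g _ => ?_)
    rw [Matrix.add_apply, Int.cast_add, add_smul]

omit [Fintype Ω] [IsPretransitive G Ω] in
theorem heckeHom_apply (k : Matrix Ω Ω ℤ) :
    heckeHom ρ a k = (Nat.card (stabilizer G a) : ℂ)⁻¹ • ∑ g : G, (k a (g • a) : ℂ) • ρ g := rfl

omit [Fintype Ω] [IsPretransitive G Ω] in
theorem card_stab_ne_zero : (Nat.card (stabilizer G a) : ℂ) ≠ 0 := by
  have : Nat.card (stabilizer G a) ≠ 0 := Nat.card_pos.ne'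
  exact_mod_cast this

theorem heckeHom_mul [DecidableEq Ω] (k k' : Matrix Ω Ω ℤ)
    (hk' : ∀ (g : G) (x y : Ω), k' (g • x) (g • y) = k' x y) :
    heckeHom ρ a (k * k') = heckeHom ρ a k * heckeHom ρ a k' := by
  have hc := card_stab_ne_zero (G := G) a
  rw [heckeHom_apply, heckeHom_apply, heckeHom_apply, smul_mul_smul_comm, Finset.sum_mul_sum]
  have h1 : ∀ g : G, ∑ g' : G, ((k a (g • a) : ℂ) • ρ g) * ((k' a (g' • a) : ℂ) • ρ g') =
      ∑ x : G, ((k a (g • a) : ℂ) * (k' (g • a) (x • a) : ℂ)) • ρ x := by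
    intro g
    refine Fintype.sum_equiv (Equiv.mulLeft g) _ _ (fun g' => ?_)
    rw [smul_mul_smul_comm, ← map_mul]
    have e2 : k' (g • a) ((Equiv.mulLeft g) g' • a) = k' a (g' • a) := by
      rw [Equiv.coe_mulLeft, mul_smul, hk' g a (g' • a)]
    rw [e2, Equiv.coe_mulLeft]
  rw [Finset.sum_congr rfl (fun g _ => h1 g), Finset.sum_comm]
  have h2 : ∀ x : G, ∑ g : G, ((k a (g • a) : ℂ) * (k' (g • a) (x • a) : ℂ)) • ρ x =
      ((Nat.card (stabilizer G a) : ℂ) * ((k * k') a (x • a) : ℂ)) • ρ x := by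
    intro x
    rw [← Finset.sum_smul]
    congr 1
    rw [sum_smul_eq (G := G) a (fun y => (k a y : ℂ) * (k' y (x • a) : ℂ)), nsmul_eq_mul,
      Matrix.mul_apply, Int.cast_sum]
    congr 1
    refine Finset.sum_congr rfl (fun y _ => ?_)
    rw [Int.cast_mul]
  rw [Finset.sum_congr rfl (fun x _ => h2 x)]
  have h3 : ∑ x : G, ((Nat.card (stabilizer G a) : ℂ) * ((k * k') a (x • a) : ℂ)) • ρ x =
      (Nat.card (stabilizer G a) : ℂ) • ∑ x : G, ((k * k') a (x • a) : ℂ) • ρ x := by
    rw [Finset.smul_sum]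
    refine Finset.sum_congr rfl (fun x _ => ?_)
    rw [mul_smul]
  rw [h3, smul_smul]
  congr 1
  field_simp

theorem heckeHom_pow [DecidableEq Ω] (B : Matrix Ω Ω ℤ)
    (hB : ∀ (g : G) (x y : Ω), B (g • x) (g • y) = B x y) (n : ℕ) :
    heckeHom ρ a (B ^ (n + 1)) = heckeHom ρ a B ^ (n + 1) := by
  induction n with
  | zero => simp
  | succ n ih => rw [pow_succ, heckeHom_mul ρ a _ _ hB, ih, ← pow_succ]

/-- Hecke operators of invariant integer kernels are integral over `ℤ`. -/
theorem heckeHom_isIntegral [DecidableEq Ω] (B : Matrix Ω Ω ℤ)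
    (hB : ∀ (g : G) (x y : Ω), B (g • x) (g • y) = B x y) :
    IsIntegral ℤ (heckeHom ρ a B) := by
  have key : ∀ p : Polynomial ℤ, heckeHom ρ a B * Polynomial.aeval (heckeHom ρ a B) p =
      heckeHom ρ a (B * Polynomial.aeval B p) := by
    intro p
    induction p using Polynomial.induction_on' with
    | add p q hp hq => rw [map_add, map_add, mul_add, mul_add, map_add, hp, hq]
    | monomial n c =>
      rw [Polynomial.aeval_monomial, Polynomial.aeval_monomial, ← Algebra.smul_def,
        ← Algebra.smul_def, mul_smul_comm, mul_smul_comm, ← pow_succ', ← pow_succ', map_zsmul,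
        heckeHom_pow ρ a B hB]
  refine ⟨Polynomial.X * B.charpoly, Polynomial.monic_X.mul (Matrix.charpoly_monic B), ?_⟩
  rw [← Polynomial.aeval_def, map_mul, Polynomial.aeval_X, key, Matrix.aeval_self_charpoly,
    mul_zero, map_zero]

omit [Fintype Ω] [IsPretransitive G Ω] in
theorem trace_heckeHom [FiniteDimensional ℂ V] (k : Matrix Ω Ω ℤ) :
    LinearMap.trace ℂ V (heckeHom ρ a k) =
      (Nat.card (stabilizer G a) : ℂ)⁻¹ * ∑ g : G, (k a (g • a) : ℂ) * ρ.character g := by
  rw [heckeHom_apply, map_smul, map_sum, smul_eq_mul]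
  congr 1
  refine Finset.sum_congr rfl (fun g _ => ?_)
  rw [map_smul, smul_eq_mul]
  rfl

/-- the weighted character sum over a suborbit is an algebraic integer -/
theorem isIntegral_sum [DecidableEq Ω] [FiniteDimensional ℂ V] (B : Matrix Ω Ω ℤ)
    (hB : ∀ (g : G) (x y : Ω), B (g • x) (g • y) = B x y) :
    IsIntegral ℤ ((Nat.card (stabilizer G a) : ℂ)⁻¹ *
      ∑ g : G, (B a (g • a) : ℂ) * ρ.character g) := by
  rw [← trace_heckeHom]
  exact isIntegral_trace_of_isIntegral _ (heckeHom_isIntegral ρ a B hB)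

omit [Fintype G] [Fintype Ω] [IsPretransitive G Ω] in
theorem one_invariant [DecidableEq Ω] (g : G) (x y : Ω) :
    (1 : Matrix Ω Ω ℤ) (g • x) (g • y) = (1 : Matrix Ω Ω ℤ) x y := by
  rw [Matrix.one_apply, Matrix.one_apply]
  by_cases h : x = y
  · rw [if_pos h, if_pos (by rw [h])]
  · rw [if_neg h, if_neg (fun h' => h (MulAction.injective g h'))]

/-- the projection onto the `H`-fixed vectors is idempotent -/
theorem heckeHom_one_idem [DecidableEq Ω] :
    IsIdempotentElem (heckeHom ρ a (1 : Matrix Ω Ω ℤ)) := by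
  unfold IsIdempotentElem
  rw [← heckeHom_mul ρ a 1 1 one_invariant, mul_one]

/-- if the stabiliser has no fixed vectors (trace of the projection zero) all Hecke operators
vanish -/
theorem heckeHom_eq_zero [DecidableEq Ω] [FiniteDimensional ℂ V]
    (h0 : ∑ g : G, ((1 : Matrix Ω Ω ℤ) a (g • a) : ℂ) * ρ.character g = 0)
    (k : Matrix Ω Ω ℤ) : heckeHom ρ a k = 0 := by
  have hP : heckeHom ρ a (1 : Matrix Ω Ω ℤ) = 0 := by
    apply (LinearMap.IsIdempotentElem.trace_eq_zero_iff (heckeHom_one_idem ρ a)).mp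
    rw [trace_heckeHom, h0, mul_zero]
  have := heckeHom_mul ρ a k 1 one_invariant
  rw [mul_one, hP, mul_zero] at this
  exact this

end

end Cfsg.Agent.Lib.Helper12.Hecke
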