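import Mathlib
import Cfsg.Agent.Lib.Helper12.Hecke
import Cfsg.Agent.Lib.Helper3.CharRegular
import Cfsg.Agent.Lib.Helper75.CharInd
import Cfsg.Agent.Lib.Helper75.CharDecomp
import Cfsg.Agent.Lib.Helper80.Orthogonality
import Cfsg.Agent.Lib.Helper74.CharSums
import Cfsg.Agent.S0190

set_option autoImplicit false

/-!
Orbital kernels of a transitive action, and the coefficients
`c_χ(B) = |H|⁻¹ ∑ g, B a (g • a) χ g` of an invariant integer kernel `B` at an irreducible
character `χ`: they are algebraic integers, vanish for non-constituents of the permutation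
character, and `∑ χ, χ 1 * c_χ(B) = |G|/|H| * B a a`.
-/

namespace Cfsg.Agent.Lib.Helper12.Subdeg

open MulAction Cfsg.Agent.Lib.Helper12.Hecke Cfsg.Agent.Lib.Helper3 Cfsg.Agent.Lib.Helper75
  Cfsg.Agent.Lib.Helper74
open scoped ComplexConjugate

section

variable (G : Type*) [Group G] {Ω : Type*} [MulAction G Ω]

open Classical in
/-- the orbital kernel of the pair `(a, b)` -/
noncomputable def orbMat (a b : Ω) : Matrix Ω Ω ℤ := fun x y =>
  if ∃ g : G, g • a = x ∧ g • b = y then 1 else 0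

theorem orbMat_invariant (a b : Ω) (g : G) (x y : Ω) :
    orbMat G a b (g • x) (g • y) = orbMat G a b x y := by
  classical
  unfold orbMat
  have : (∃ g' : G, g' • a = g • x ∧ g' • b = g • y) ↔ ∃ g' : G, g' • a = x ∧ g' • b = y := by
    constructor
    · rintro ⟨g', h1, h2⟩
      exact ⟨g⁻¹ * g', by rw [mul_smul, h1, inv_smul_smul], by rw [mul_smul, h2, inv_smul_smul]⟩
    · rintro ⟨g', h1, h2⟩
      exact ⟨g * g', by rw [mul_smul, h1], by rw [mul_smul, h2]⟩
  simp only [this]

theorem orbMat_self (a b : Ω) (hab : b ≠ a) : orbMat G a b a a = 0 := by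
  classical
  unfold orbMat
  rw [if_neg]
  rintro ⟨g, h1, h2⟩
  exact hab (MulAction.injective g (h2.trans h1.symm))

theorem orbMat_apply_of_mem (a b : Ω) : orbMat G a b a b = 1 := by
  classical
  unfold orbMat
  rw [if_pos ⟨1, one_smul _ _, one_smul _ _⟩]

theorem orbMat_eq_one_iff (a b x y : Ω) :
    orbMat G a b x y = 1 ↔ ∃ g : G, g • a = x ∧ g • b = y := by
  classical
  unfold orbMat
  split_ifs with h
  · simp [h]
  · simp [h]

theorem sum_orbMat [Fintype Ω] (a b : Ω) :
    ∑ y : Ω, (orbMat G a b a y : ℂ) = (Nat.card (orbit (stabilizer G a) b) : ℂ) := by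
  classical
  have h : ∀ y : Ω, (orbMat G a b a y : ℂ) =
      if y ∈ orbit (stabilizer G a) b then 1 else 0 := by
    intro y
    unfold orbMat
    have : (∃ g : G, g • a = a ∧ g • b = y) ↔ y ∈ orbit (stabilizer G a) b := by
      constructor
      · rintro ⟨g, hg, rfl⟩
        exact ⟨⟨g, hg⟩, rfl⟩
      · rintro ⟨⟨g, hg⟩, rfl⟩
        exact ⟨g, hg, rfl⟩
    by_cases hy : y ∈ orbit (stabilizer G a) b
    · rw [if_pos hy, if_pos (this.mpr hy)]; simp
    · rw [if_neg hy, if_neg (fun h' => hy (this.mp h'))]; simp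
  simp_rw [h]
  rw [Finset.sum_boole, Nat.card_eq_fintype_card, Fintype.card_subtype]

theorem sum_one_mat [Fintype G] [DecidableEq Ω] (a : Ω) [Fintype (stabilizer G a)] (F : G → ℂ) :
    ∑ g : G, ((1 : Matrix Ω Ω ℤ) a (g • a) : ℂ) * F g = ∑ h : stabilizer G a, F h := by
  classical
  have h1 : ∀ g : G, ((1 : Matrix Ω Ω ℤ) a (g • a) : ℂ) * F g =
      if g ∈ stabilizer G a then F g else 0 := by
    intro g
    rw [Matrix.one_apply]
    by_cases h : g ∈ stabilizer G a
    · rw [if_pos h, if_pos (mem_stabilizer_iff.mp h).symm]; simp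
    · rw [if_neg h, if_neg (fun h' => h (mem_stabilizer_iff.mpr h'.symm))]; simp
  simp_rw [h1]
  rw [← Finset.sum_filter]
  exact Finset.sum_subtype (Finset.univ.filter (· ∈ stabilizer G a)) (by simp) F

end

section

variable {G : Type*} [Group G] [Fintype G] {Ω : Type*} [Fintype Ω] [MulAction G Ω]
  [IsPretransitive G Ω]

/-- the permutation character -/
noncomputable abbrev permChar (G : Type*) [Group G] (Ω : Type*) [MulAction G Ω] : G → ℂ :=
  fun g : G => (Nat.card (MulAction.fixedBy Ω g) : ℂ)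

theorem isCharacter_permChar : Cfsg.IsCharacter G (permChar G Ω) := by
  rcases isEmpty_or_nonempty Ω with hΩ | ⟨⟨x⟩⟩
  · have : permChar G Ω = 0 := by
      funext g
      simp [permChar]
    rw [this]
    exact isCharacter_zero
  · have hπind : permChar G Ω = Cfsg.indFun (MulAction.stabilizer G x) (fun _ => 1) :=
      Cfsg.Agent.S0190.result Ω x
    rw [hπind]
    exact isCharacter_indFun _ (isCharacter_of_irr isIrrCharacter_one)

/-- multiplicity of a class function in the permutation character -/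
theorem classInner_permChar (a : Ω) [Fintype (stabilizer G a)] {χ : G → ℂ}
    (hχ : Cfsg.IsClassFunction G χ) :
    Cfsg.classInner (permChar G Ω) χ =
      (Nat.card (stabilizer G a) : ℂ)⁻¹ * ∑ h : stabilizer G a, conj (χ h) := by
  have hπind : permChar G Ω = Cfsg.indFun (MulAction.stabilizer G a) (fun _ => 1) :=
    Cfsg.Agent.S0190.result Ω a
  rw [hπind, frobenius_reciprocity _ _ hχ]
  unfold Cfsg.classInner
  simp

variable [DecidableEq Ω]

/-- the coefficient of an invariant kernel at a function on the group -/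
noncomputable def coef (a : Ω) (B : Matrix Ω Ω ℤ) (χ : G → ℂ) : ℂ :=
  (Nat.card (stabilizer G a) : ℂ)⁻¹ * ∑ g : G, (B a (g • a) : ℂ) * χ g

theorem coef_isIntegral (a : Ω) (B : Matrix Ω Ω ℤ)
    (hB : ∀ (g : G) (x y : Ω), B (g • x) (g • y) = B x y) {χ : G → ℂ}
    (hχ : Cfsg.IsIrrCharacter G χ) : IsIntegral ℤ (coef a B χ) := by
  obtain ⟨n, ρ, hirr, rfl⟩ := hχ
  exact isIntegral_sum ρ a B hB

theorem coef_eq_zero (a : Ω) (B : Matrix Ω Ω ℤ) {χ : G → ℂ}
    (hχ : Cfsg.IsIrrCharacter G χ) (h0 : Cfsg.classInner (permChar G Ω) χ = 0) :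
    coef a B χ = 0 := by
  classical
  have hcf := isClassFunction_of_isCharacter (isCharacter_of_irr hχ)
  have : Fintype (stabilizer G a) := Fintype.ofFinite _
  rw [classInner_permChar a hcf] at h0
  have hc := card_stab_ne_zero (G := G) a
  have h1 : ∑ h : stabilizer G a, conj (χ h) = 0 := by
    rcases mul_eq_zero.mp h0 with h | h
    · exact absurd (inv_eq_zero.mp h) hc
    · exact h
  have h2 : ∑ h : stabilizer G a, χ h = 0 := by
    have := congrArg conj h1
    rw [map_sum, map_zero] at this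
    simpa using this
  obtain ⟨n, ρ, hirr, rfl⟩ := hχ
  have h3 : ∑ g : G, ((1 : Matrix Ω Ω ℤ) a (g • a) : ℂ) * ρ.character g = 0 := by
    rw [sum_one_mat G a (fun g => ρ.character g)]
    exact h2
  unfold coef
  rw [← trace_heckeHom, heckeHom_eq_zero ρ a h3 B, map_zero]

omit [DecidableEq Ω] in
theorem coef_one (a : Ω) (B : Matrix Ω Ω ℤ) :
    coef a B (fun _ : G => (1 : ℂ)) = ∑ y : Ω, (B a y : ℂ) := by
  unfold coef
  have hc := card_stab_ne_zero (G := G) a
  simp only [mul_one]
  rw [sum_smul_eq (G := G) a (fun y => (B a y : ℂ)), nsmul_eq_mul, ← mul_assoc,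
    inv_mul_cancel₀ hc, one_mul]

omit [Fintype Ω] [IsPretransitive G Ω] [DecidableEq Ω] in
/-- the regular character identity for the coefficients -/
theorem sum_degree_mul_coef [Fintype (Cfsg.IrrCharacter G)] (a : Ω) (B : Matrix Ω Ω ℤ) :
    ∑ χ : Cfsg.IrrCharacter G, (χ : G → ℂ) 1 * coef a B (χ : G → ℂ) =
      (Nat.card (stabilizer G a) : ℂ)⁻¹ * ((B a a : ℂ) * (Nat.card G : ℂ)) := by
  classical
  unfold coef
  have h1 : ∀ χ : Cfsg.IrrCharacter G, (χ : G → ℂ) 1 * ((Nat.card (stabilizer G a) : ℂ)⁻¹ *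
      ∑ g : G, (B a (g • a) : ℂ) * (χ : G → ℂ) g) = (Nat.card (stabilizer G a) : ℂ)⁻¹ *
      ∑ g : G, (B a (g • a) : ℂ) * ((χ : G → ℂ) 1 * (χ : G → ℂ) g) := by
    intro χ
    rw [Finset.mul_sum, Finset.mul_sum, Finset.mul_sum]
    refine Finset.sum_congr rfl (fun g _ => ?_)
    ring
  rw [Finset.sum_congr rfl (fun χ _ => h1 χ), ← Finset.mul_sum, Finset.sum_comm]
  congr 1
  simp_rw [← Finset.mul_sum, ← regular_expansion]
  rw [Finset.sum_eq_single 1]
  · rw [one_smul, if_pos rfl]
  · intro g _ hg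
    rw [if_neg hg, mul_zero]
  · intro h
    exact absurd (Finset.mem_univ _) h

end

end Cfsg.Agent.Lib.Helper12.Subdeg
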