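import Mathlib
import Cfsg.Agent.Lib.Helper12.Subdeg
import Cfsg.Agent.Lib.Helper59.Derange

set_option autoImplicit false

/-!
Basic numerical facts about the permutation character `π` of a transitive action:
`⟨π, 1⟩ = 1`, `⟨π, π⟩ = rank`, `π 1 = |Ω|`, multiplicities, and the partition of `Ω` into
suborbits.
-/

namespace Cfsg.Agent.Lib.Helper12.PermChar

open MulAction Cfsg.Agent.Lib.Helper12.Hecke Cfsg.Agent.Lib.Helper12.Subdeg
  Cfsg.Agent.Lib.Helper3 Cfsg.Agent.Lib.Helper75 Cfsg.Agent.Lib.Helper74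
open scoped ComplexConjugate

section

variable {G : Type*} [Group G] [Fintype G] {Ω : Type*} [Fintype Ω] [MulAction G Ω]
  [IsPretransitive G Ω]

theorem isClassFunction_permChar : Cfsg.IsClassFunction G (permChar G Ω) :=
  isClassFunction_of_isCharacter isCharacter_permChar

omit [Fintype G] [IsPretransitive G Ω] in
theorem permChar_one : permChar G Ω 1 = (Fintype.card Ω : ℂ) := by
  unfold permChar
  rw [← Nat.card_eq_fintype_card]
  congr 1
  apply Nat.card_congr
  exact
    { toFun := fun x => x.1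
      invFun := fun x => ⟨x, by rw [mem_fixedBy, one_smul]⟩
      left_inv := fun x => rfl
      right_inv := fun x => rfl }

/-- `⟨π, 1⟩ = 1` -/
theorem classInner_permChar_one (a : Ω) :
    Cfsg.classInner (permChar G Ω) (fun _ : G => (1 : ℂ)) = 1 := by
  classical
  have : Fintype (stabilizer G a) := Fintype.ofFinite _
  have hcf : Cfsg.IsClassFunction G (fun _ : G => (1 : ℂ)) := fun g h => rfl
  rw [classInner_permChar a hcf]
  have hc := card_stab_ne_zero (G := G) a
  simp only [map_one, Finset.sum_const, Finset.card_univ, nsmul_eq_mul, mul_one]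
  rw [← Nat.card_eq_fintype_card, inv_mul_cancel₀ hc]

/-- `⟨π, π⟩` is the rank -/
theorem classInner_permChar_self (a : Ω) :
    Cfsg.classInner (permChar G Ω) (permChar G Ω) =
      (Nat.card (orbitRel.Quotient (stabilizer G a) Ω) : ℂ) := by
  classical
  have : Fintype (stabilizer G a) := Fintype.ofFinite _
  rw [classInner_permChar a isClassFunction_permChar]
  have hc := card_stab_ne_zero (G := G) a
  have h1 := Cfsg.Agent.Lib.Helper59.burnside_natCard (stabilizer G a) Ω
  have h2 : ∑ h : stabilizer G a, conj (permChar G Ω h) =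
      ((∑ h : stabilizer G a, Nat.card (fixedBy Ω h) : ℕ) : ℂ) := by
    rw [Nat.cast_sum]
    refine Finset.sum_congr rfl (fun h _ => ?_)
    unfold permChar
    rw [Complex.conj_natCast]
    rfl
  rw [h2, h1, Nat.cast_mul, mul_comm, mul_assoc, mul_inv_cancel₀ hc, mul_one]

/-- the multiplicities of the irreducible constituents of the permutation character -/
theorem exists_mult [Fintype (Cfsg.IrrCharacter G)] (a : Ω) :
    ∃ m : Cfsg.IrrCharacter G → ℕ,
      (∀ ψ : Cfsg.IrrCharacter G, Cfsg.classInner (permChar G Ω) (ψ : G → ℂ) = m ψ) ∧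
      m (irrOne G) = 1 ∧
      ∑ ψ : Cfsg.IrrCharacter G, m ψ ^ 2 = Nat.card (orbitRel.Quotient (stabilizer G a) Ω) ∧
      ∀ deg : Cfsg.IrrCharacter G → ℕ, (∀ ψ : Cfsg.IrrCharacter G, (ψ : G → ℂ) 1 = deg ψ) →
        ∑ ψ : Cfsg.IrrCharacter G, m ψ * deg ψ = Fintype.card Ω := by
  obtain ⟨m, hm, hsum⟩ := char_eq_sum_irr (isCharacter_permChar (G := G) (Ω := Ω))
  refine ⟨m, hm, ?_, ?_, ?_⟩
  · have h1 := hm (irrOne G)
    have h2 := classInner_permChar_one (G := G) a
    have h3 : ((irrOne G : Cfsg.IrrCharacter G) : G → ℂ) = fun _ => 1 := rfl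
    rw [h3, h2] at h1
    exact_mod_cast h1.symm
  · have h1 := classInner_permChar_self (G := G) a
    have h2 : Cfsg.classInner (permChar G Ω) (permChar G Ω) =
        ∑ ψ : Cfsg.IrrCharacter G, (m ψ : ℂ) * (m ψ : ℂ) := by
      conv_lhs => lhs; rw [hsum]
      rw [classInner_sum_left]
      refine Finset.sum_congr rfl (fun ψ _ => ?_)
      rw [classInner_smul_left, classInner_conj_symm (permChar G Ω) (ψ : G → ℂ), hm ψ,
        Complex.conj_natCast]
    rw [h2] at h1
    have h3 : ((∑ ψ : Cfsg.IrrCharacter G, m ψ ^ 2 : ℕ) : ℂ) =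
        (Nat.card (orbitRel.Quotient (stabilizer G a) Ω) : ℂ) := by
      rw [← h1, Nat.cast_sum]
      refine Finset.sum_congr rfl (fun ψ _ => ?_)
      rw [Nat.cast_pow, sq]
    exact_mod_cast h3
  · intro deg hdeg
    have h1 := congrFun hsum 1
    rw [permChar_one] at h1
    have h3 : ((∑ ψ : Cfsg.IrrCharacter G, m ψ * deg ψ : ℕ) : ℂ) = (Fintype.card Ω : ℂ) := by
      rw [h1, Nat.cast_sum, Finset.sum_apply]
      refine Finset.sum_congr rfl (fun ψ _ => ?_)
      rw [Pi.smul_apply, smul_eq_mul, hdeg ψ, Nat.cast_mul]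
    exact_mod_cast h3

end

section orbits

variable {G : Type*} [Group G] {Ω : Type*} [Fintype Ω] [MulAction G Ω]

/-- the orbit partition, numerically -/
theorem card_eq_sum_orbits [Fintype (orbitRel.Quotient G Ω)] :
    Fintype.card Ω = ∑ q : orbitRel.Quotient G Ω, Nat.card q.orbit := by
  rw [← Nat.card_eq_fintype_card, Nat.card_congr (selfEquivSigmaOrbits' G Ω), Nat.card_sigma]

omit [Fintype Ω] in
theorem orbit_stabilizer_self (a : Ω) : orbit (stabilizer G a) a = {a} := by
  ext x
  constructor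
  · rintro ⟨h, rfl⟩
    exact h.2
  · rintro rfl
    exact mem_orbit_self _

end orbits

end Cfsg.Agent.Lib.Helper12.PermChar
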