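import Mathlib
import Cfsg.Prelude.Def_Local
import Cfsg.Prelude.Def_Transfer
import Cfsg.Prelude.Def_CaseTheorems
import Cfsg.Agent.Lib.Helper22.CharP
import Cfsg.Agent.Lib.Helper49.CharP
import Cfsg.Agent.Lib.Helper34.KleinInv
import Cfsg.Agent.Lib.Helper71.Fitting

/-!
# S2924: cores of involution centralizers generate a subgroup of odd order

`Y` elementary abelian of order at least `8`, `E(C_X(x)) = 1` for `x ∈ Y#`, and
`F*(C_X(z)) = O_2(C_X(z))` for some `z ∈ Y#`.  Write `D_y = O(C_X(y))`.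

* `D_y ∩ C(z) = 1` (Thompson `A × B` and Bender's theorem in `C_X(z)`), so `z` inverts `D_y`
  and `D_y` is abelian;
* balance `D_y ∩ C(u) ≤ D_u`: `K = D_y ∩ C(u)` centralizes `O_2(C(u))` (`A × B`) and `O(C(u))`
  (both are inverted by `z`), hence `F*(C(u)) = F(C(u)) ≤ O_2 O`, so `K ≤ O(C(u))` by Bender;
* `D_y`, `D_{y'}` commute elementwise (split `d² = d₊ d₋` along an involution of `Y`);
* so the join is generated by commuting elements of odd order.
-/

set_option autoImplicit false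

namespace Cfsg.Agent.Lib.Helper12.S2924Core

open Cfsg Subgroup

universe u

section Generic

variable {G : Type u} [Group G]

theorem mem_cent {g w : G} : g ∈ Subgroup.centralizer ({w} : Set G) ↔ Commute g w := by
  rw [Subgroup.mem_centralizer_iff]
  constructor
  · intro h
    exact (h w rfl).symm
  · intro h x hx
    rw [Set.mem_singleton_iff] at hx
    rw [hx]
    exact h.eq.symm

theorem commute_of_sq {k d : G} (hodd : (orderOf k).Coprime 2) (h : Commute (k ^ 2) d) :
    Commute k d := by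
  obtain ⟨m, hm⟩ := exists_pow_eq_self_of_coprime (x := k) (n := 2) hodd.symm
  rw [← hm]
  exact h.pow_left m

theorem mem_map_subtype_iff {H : Subgroup G} {N : Subgroup ↥H} {x : G} :
    x ∈ N.map H.subtype ↔ ∃ hx : x ∈ H, (⟨x, hx⟩ : ↥H) ∈ N := by
  constructor
  · rintro ⟨n, hn, rfl⟩
    exact ⟨n.2, hn⟩
  · rintro ⟨hx, hn⟩
    exact ⟨⟨x, hx⟩, hn, rfl⟩

/-- A normal subgroup of `↥H`, mapped to `G`, is stable under conjugation by `H`. -/
theorem conj_mem_map_subtype {H : Subgroup G} (N : Subgroup ↥H) [hN : N.Normal] {h x : G}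
    (hh : h ∈ H) (hx : x ∈ N.map H.subtype) : h * x * h⁻¹ ∈ N.map H.subtype := by
  obtain ⟨hxH, hxN⟩ := mem_map_subtype_iff.mp hx
  refine mem_map_subtype_iff.mpr ⟨H.mul_mem (H.mul_mem hh hxH) (H.inv_mem hh), ?_⟩
  exact hN.conj_mem ⟨x, hxH⟩ hxN ⟨h, hh⟩

theorem le_normalizer_of_conj_mem' {B U : Subgroup G} (h : ∀ b ∈ B, ∀ u ∈ U, b * u * b⁻¹ ∈ U) :
    B ≤ Subgroup.normalizer (U : Set G) := by
  intro b hb
  rw [Subgroup.mem_normalizer_iff]
  intro u
  constructor
  · exact h b hb u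
  · intro hu
    have h1 := h b⁻¹ (B.inv_mem hb) _ hu
    have e : b⁻¹ * (b * u * b⁻¹) * b⁻¹⁻¹ = u := by group
    rwa [e] at h1

end Generic

section Intrinsic

variable {H : Type u} [Group H] [Finite H]

/-- `F(H) ≤ O_2(H) O(H)`. -/
theorem fitting_le_sup : Cfsg.fittingSubgroup H ≤ Cfsg.pCore 2 H ⊔ Cfsg.pPrimeCore 2 H := by
  have hnil : Group.IsNilpotent (Cfsg.fittingSubgroup H) :=
    Cfsg.Agent.Lib.Helper71.fittingSubgroup_isNilpotent
  have hFn : (Cfsg.fittingSubgroup H).Normal := Cfsg.Agent.Lib.Helper29.fittingSubgroup_normal H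
  have htop : (Cfsg.pCore 2 H ⊔ Cfsg.pPrimeCore 2 H).subgroupOf (Cfsg.fittingSubgroup H) = ⊤ := by
    apply Cfsg.Agent.Lib.Helper30.eq_top_of_forall_sylow_le
    intro q hq S
    have hSn : (S : Subgroup (Cfsg.fittingSubgroup H)).Normal := inferInstance
    have hSc : (S : Subgroup (Cfsg.fittingSubgroup H)).Characteristic :=
      Sylow.characteristic_of_normal S hSn
    have hS'n : ((S : Subgroup (Cfsg.fittingSubgroup H)).map
        (Cfsg.fittingSubgroup H).subtype).Normal :=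
      ConjAct.normal_of_characteristic_of_normal
    have hS'q : IsPGroup q ((S : Subgroup (Cfsg.fittingSubgroup H)).map
        (Cfsg.fittingSubgroup H).subtype) := S.isPGroup'.map _
    have hle : (S : Subgroup (Cfsg.fittingSubgroup H)).map (Cfsg.fittingSubgroup H).subtype ≤
        Cfsg.pCore 2 H ⊔ Cfsg.pPrimeCore 2 H := by
      by_cases h2 : q = 2
      · subst h2
        exact (Cfsg.Agent.Lib.Helper49.le_pCore hS'n hS'q).trans le_sup_left
      · have hc : (Nat.card ((S : Subgroup (Cfsg.fittingSubgroup H)).map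
            (Cfsg.fittingSubgroup H).subtype)).Coprime 2 := by
          obtain ⟨n, hn⟩ := IsPGroup.iff_card.mp hS'q
          rw [hn]
          exact Nat.Coprime.pow_left n ((Nat.coprime_primes hq.out Nat.prime_two).mpr h2)
        exact (Cfsg.Agent.Lib.Helper22.le_pPrimeCore_of_normal 2 hS'n hc).trans le_sup_right
    intro x hx
    rw [Subgroup.mem_subgroupOf]
    exact hle (Subgroup.mem_map_of_mem _ hx)
  rw [Subgroup.subgroupOf_eq_top] at htop
  exact htop

/-- An element of odd order of `O_2(H) O(H)` lies in `O(H)`. -/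
theorem mem_core_of_mem_sup {k : H} (hk : k ∈ Cfsg.pCore 2 H ⊔ Cfsg.pPrimeCore 2 H)
    (hodd : (orderOf k).Coprime 2) : k ∈ Cfsg.pPrimeCore 2 H := by
  have hOn : (Cfsg.pPrimeCore 2 H).Normal := Cfsg.Agent.Lib.Helper22.pPrimeCore_normal' 2 H
  have hk' : k ∈ ((Cfsg.pCore 2 H ⊔ Cfsg.pPrimeCore 2 H : Subgroup H) : Set H) := hk
  rw [Subgroup.mul_normal] at hk'
  obtain ⟨q, hq, d, hd, rfl⟩ := Set.mem_mul.mp hk'
  obtain ⟨e, he⟩ := (Cfsg.Agent.Lib.Helper49.pCore_isPGroup 2 H) ⟨q, hq⟩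
  have he' : q ^ 2 ^ e = 1 := by
    have := congrArg Subtype.val he
    simpa using this
  have h1 : (QuotientGroup.mk' (Cfsg.pPrimeCore 2 H)) (q * d) =
      (QuotientGroup.mk' (Cfsg.pPrimeCore 2 H)) q := by
    rw [map_mul]
    have : (QuotientGroup.mk' (Cfsg.pPrimeCore 2 H)) d = 1 := (QuotientGroup.eq_one_iff d).mpr hd
    rw [this, mul_one]
  have h2 : orderOf ((QuotientGroup.mk' (Cfsg.pPrimeCore 2 H)) q) ∣ orderOf (q * d) := by
    rw [← h1]
    exact orderOf_map_dvd _ _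
  have h3 : orderOf ((QuotientGroup.mk' (Cfsg.pPrimeCore 2 H)) q) ∣ 2 ^ e := by
    apply orderOf_dvd_of_pow_eq_one
    rw [← map_pow, he', map_one]
  have h4 : orderOf ((QuotientGroup.mk' (Cfsg.pPrimeCore 2 H)) q) = 1 :=
    Nat.eq_one_of_dvd_coprimes (Nat.Coprime.pow_right e hodd) h2 h3
  rw [orderOf_eq_one_iff] at h4
  have h5 : q ∈ Cfsg.pPrimeCore 2 H := (QuotientGroup.eq_one_iff q).mp h4
  exact (Cfsg.pPrimeCore 2 H).mul_mem h5 hd

/-- If `E(H) = 1`, an element of odd order centralizing `O_2(H)` and `O(H)` lies in `O(H)`. -/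
theorem mem_core_of_centralizes (hE : Cfsg.layer H = ⊥) {k : H} (hodd : (orderOf k).Coprime 2)
    (hQ : ∀ q ∈ Cfsg.pCore 2 H, Commute k q) (hO : ∀ d ∈ Cfsg.pPrimeCore 2 H, Commute k d) :
    k ∈ Cfsg.pPrimeCore 2 H := by
  have hF : Cfsg.generalizedFittingSubgroup H = Cfsg.fittingSubgroup H := by
    unfold Cfsg.generalizedFittingSubgroup
    rw [hE, bot_sup_eq]
  have hle : Cfsg.pCore 2 H ⊔ Cfsg.pPrimeCore 2 H ≤ Subgroup.centralizer ({k} : Set H) := by
    apply sup_le
    · intro q hq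
      exact mem_cent.mpr (hQ q hq).symm
    · intro d hd
      exact mem_cent.mpr (hO d hd).symm
  apply mem_core_of_mem_sup _ hodd
  apply fitting_le_sup
  rw [← hF]
  apply Cfsg.Agent.Lib.Helper30.centralizer_generalizedFittingSubgroup_le H
  rw [Subgroup.mem_centralizer_iff]
  intro f hf
  rw [hF] at hf
  exact (mem_cent.mp (hle (fitting_le_sup hf))).eq

/-- If `F*(H) = O_2(H)`, an element of odd order centralizing `O_2(H)` is trivial. -/
theorem eq_one_of_centralizes (hF : Cfsg.generalizedFittingSubgroup H = Cfsg.pCore 2 H) {k : H}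
    (hodd : (orderOf k).Coprime 2) (hQ : ∀ q ∈ Cfsg.pCore 2 H, Commute k q) : k = 1 := by
  have hk : k ∈ Cfsg.pCore 2 H := by
    rw [← hF]
    apply Cfsg.Agent.Lib.Helper30.centralizer_generalizedFittingSubgroup_le H
    rw [Subgroup.mem_centralizer_iff]
    intro f hf
    rw [hF] at hf
    exact (hQ f hf).eq.symm
  obtain ⟨e, he⟩ := (Cfsg.Agent.Lib.Helper49.pCore_isPGroup 2 H) ⟨k, hk⟩
  have he' : k ^ 2 ^ e = 1 := by
    have := congrArg Subtype.val he
    simpa using this
  have h1 : orderOf k ∣ 2 ^ e := orderOf_dvd_of_pow_eq_one he'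
  have h2 : orderOf k = 1 :=
    Nat.eq_one_of_dvd_coprimes (Nat.Coprime.pow_right e hodd) dvd_rfl h1
  exact orderOf_eq_one_iff.mp h2

end Intrinsic

section Ambient

variable {X : Type u} [Group X] [Finite X]

/-- Thompson `A × B` for an involution `y` and an odd-order group `K` centralizing `y`, acting
on `O_2(H)`. -/
theorem axb_commute {H K : Subgroup X} {y : X} (hy2 : y * y = 1) (hyH : y ∈ H)
    (hKH : K ≤ H) (hKy : ∀ k ∈ K, Commute k y) (hKodd : (Nat.card K).Coprime 2)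
    (hKn : ∀ g ∈ H, Commute g y → ∀ k ∈ K, g * k * g⁻¹ ∈ K) :
    ∀ k ∈ K, ∀ q ∈ (Cfsg.pCore 2 ↥H).map H.subtype, Commute k q := by
  intro k hk
  have hQn : (Cfsg.pCore 2 ↥H).Normal := Cfsg.Agent.Lib.Helper22.pCore_normal' 2 ↥H
  have hQp : IsPGroup 2 ((Cfsg.pCore 2 ↥H).map H.subtype) :=
    (Cfsg.Agent.Lib.Helper49.pCore_isPGroup 2 ↥H).map _
  have hHQ : H ≤ Subgroup.normalizer (((Cfsg.pCore 2 ↥H).map H.subtype : Subgroup X) : Set X) :=
    le_normalizer_of_conj_mem' (fun h hh x hx => conj_mem_map_subtype _ hh hx)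
  have hBp : IsPGroup 2 (Subgroup.zpowers y) := by
    intro g
    refine ⟨1, ?_⟩
    obtain ⟨n, hn⟩ := Subgroup.mem_zpowers_iff.mp g.2
    have h1 : (g : X) * (g : X) = 1 := by
      rw [← hn, ← (Commute.refl y).mul_zpow, hy2, one_zpow]
    apply Subtype.ext
    simp only [pow_one, Subgroup.coe_pow, Subgroup.coe_one]
    rw [pow_two, h1]
  have hBQ : Subgroup.zpowers y ≤
      Subgroup.normalizer (((Cfsg.pCore 2 ↥H).map H.subtype : Subgroup X) : Set X) := by
    rw [Subgroup.zpowers_le]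
    exact hHQ hyH
  have hkodd : (orderOf k).Coprime 2 :=
    Nat.Coprime.coprime_dvd_left (by
      have := orderOf_dvd_natCard (⟨k, hk⟩ : K)
      rwa [Subgroup.orderOf_mk] at this) hKodd
  have hKQ : K ⊓ (Cfsg.pCore 2 ↥H).map H.subtype = ⊥ := by
    apply Disjoint.eq_bot
    apply Subgroup.disjoint_of_coprime_natCard
    obtain ⟨n, hn⟩ := IsPGroup.iff_card.mp hQp
    rw [hn]
    exact Nat.Coprime.pow_right n hKodd
  apply Cfsg.Agent.Lib.Helper49.thompson_AxB (p := 2) ((Cfsg.pCore 2 ↥H).map H.subtype)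
    (Subgroup.zpowers y) hQp hBp hBQ k (hHQ (hKH hk)) hkodd
  · intro b hb
    obtain ⟨n, rfl⟩ := Subgroup.mem_zpowers_iff.mp hb
    exact (hKy k hk).zpow_right n
  · intro u hu hub
    have huy : Commute u y := hub y (Subgroup.mem_zpowers y)
    obtain ⟨huH, -⟩ := mem_map_subtype_iff.mp hu
    have h1 : k * u * k⁻¹ * u⁻¹ ∈ K := by
      have h := hKn u huH huy k⁻¹ (K.inv_mem hk)
      have e : k * u * k⁻¹ * u⁻¹ = k * (u * k⁻¹ * u⁻¹) := by group
      rw [e]
      exact K.mul_mem hk h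
    have h2 : k * u * k⁻¹ * u⁻¹ ∈ (Cfsg.pCore 2 ↥H).map H.subtype := by
      have h := conj_mem_map_subtype (Cfsg.pCore 2 ↥H) (hKH hk) hu
      exact Subgroup.mul_mem _ h (Subgroup.inv_mem _ hu)
    have h3 : k * u * k⁻¹ * u⁻¹ ∈ K ⊓ (Cfsg.pCore 2 ↥H).map H.subtype := ⟨h1, h2⟩
    rw [hKQ, Subgroup.mem_bot] at h3
    show k * u = u * k
    calc k * u = (k * u * k⁻¹ * u⁻¹) * (u * k) := by group
      _ = u * k := by rw [h3, one_mul]

/-- `O(C_X(y))` as a subgroup of `X`. -/
def oc (y : X) : Subgroup X :=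
  (Cfsg.oddCore ↥(Subgroup.centralizer ({y} : Set X))).map
    (Subgroup.centralizer ({y} : Set X)).subtype

theorem oc_le (y : X) : oc y ≤ Subgroup.centralizer ({y} : Set X) := Subgroup.map_subtype_le _

theorem oc_odd (y : X) : (Nat.card (oc y)).Coprime 2 := by
  unfold oc
  rw [Subgroup.card_map_of_injective (Subgroup.subtype_injective _)]
  exact Cfsg.Agent.Lib.Helper22.card_pPrimeCore_coprime 2 _

theorem oc_orderOf (y : X) {d : X} (hd : d ∈ oc y) : (orderOf d).Coprime 2 :=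
  Nat.Coprime.coprime_dvd_left (by
    have := orderOf_dvd_natCard (⟨d, hd⟩ : oc y)
    rwa [Subgroup.orderOf_mk] at this) (oc_odd y)

theorem oc_conj (y : X) {c d : X} (hc : c ∈ Subgroup.centralizer ({y} : Set X)) (hd : d ∈ oc y) :
    c * d * c⁻¹ ∈ oc y := by
  have : (Cfsg.oddCore ↥(Subgroup.centralizer ({y} : Set X))).Normal :=
    Cfsg.Agent.Lib.Helper22.pPrimeCore_normal' 2 _
  exact conj_mem_map_subtype _ hc hd

theorem oc_max (y : X) {N : Subgroup X} (hN : N ≤ Subgroup.centralizer ({y} : Set X))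
    (hn : ∀ c ∈ Subgroup.centralizer ({y} : Set X), ∀ x ∈ N, c * x * c⁻¹ ∈ N)
    (hodd : (Nat.card N).Coprime 2) : N ≤ oc y := by
  have hnorm : (N.subgroupOf (Subgroup.centralizer ({y} : Set X))).Normal := by
    constructor
    intro n hn' g
    rw [Subgroup.mem_subgroupOf] at hn' ⊢
    exact hn g g.2 n hn'
  have hcard : (Nat.card (N.subgroupOf (Subgroup.centralizer ({y} : Set X)))).Coprime 2 := by
    rw [Nat.card_congr (Subgroup.subgroupOfEquivOfLe hN).toEquiv]
    exact hodd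
  have hle := Cfsg.Agent.Lib.Helper22.le_pPrimeCore_of_normal 2 hnorm hcard
  intro x hx
  exact mem_map_subtype_iff.mpr ⟨hN hx, hle (Subgroup.mem_subgroupOf.mpr hx)⟩

/-- The core of S2924. -/
theorem core {Y : Subgroup X} (hY : Cfsg.IsElementaryAbelian 2 Y) (h8 : 8 ≤ Nat.card ↥Y)
    (hE : ∀ x ∈ Y, x ≠ 1 → Cfsg.layer ↥(Subgroup.centralizer ({x} : Set X)) = ⊥)
    (hz : ∃ z ∈ Y, z ≠ 1 ∧ Cfsg.generalizedFittingSubgroup ↥(Subgroup.centralizer ({z} : Set X)) =
      Cfsg.pCore 2 ↥(Subgroup.centralizer ({z} : Set X))) :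
    Odd (Nat.card ↥(⨆ y : {y : X // y ∈ Y ∧ y ≠ 1}, oc (y : X))) ∧
      Subgroup.normalizer (Y : Set X) ≤
        Subgroup.normalizer ((⨆ y : {y : X // y ∈ Y ∧ y ≠ 1}, oc (y : X) : Subgroup X) : Set X) := by
  classical
  obtain ⟨z, hzY, hz1, hzF⟩ := hz
  -- basic facts on `Y`
  have hYc : ∀ a ∈ Y, ∀ b ∈ Y, a * b = b * a := by
    intro a ha b hb
    have := hY.1.is_comm.comm (⟨a, ha⟩ : Y) ⟨b, hb⟩
    exact congrArg Subtype.val this
  have hYsq : ∀ a ∈ Y, a * a = 1 := by
    intro a ha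
    have := hY.2 a ha
    rwa [pow_two] at this
  have hYinv : ∀ a ∈ Y, a⁻¹ = a := fun a ha => inv_eq_of_mul_eq_one_left (hYsq a ha)
  have hYC : ∀ a ∈ Y, ∀ b ∈ Y, a ∈ Subgroup.centralizer ({b} : Set X) := by
    intro a ha b hb
    exact mem_cent.mpr (hYc a ha b hb)
  have hz2 : z * z = 1 := hYsq z hzY
  -- the groups `K = D_y ∩ C(u)`
  have hnormK : ∀ y u : X, ∀ g ∈ Subgroup.centralizer ({u} : Set X), Commute g y →
      ∀ k ∈ oc y ⊓ Subgroup.centralizer ({u} : Set X),
        g * k * g⁻¹ ∈ oc y ⊓ Subgroup.centralizer ({u} : Set X) := by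
    intro y u g hgu hgy k hk
    exact ⟨oc_conj y (mem_cent.mpr hgy) hk.1,
      Subgroup.mul_mem _ (Subgroup.mul_mem _ hgu hk.2) (Subgroup.inv_mem _ hgu)⟩
  have hKodd : ∀ y u : X, (Nat.card ↥(oc y ⊓ Subgroup.centralizer ({u} : Set X))).Coprime 2 :=
    fun y u => Nat.Coprime.coprime_dvd_left (Subgroup.card_dvd_of_le inf_le_left) (oc_odd y)
  -- Step 1: `D_y ∩ C(z) = 1`
  have h1 : ∀ y ∈ Y, oc y ⊓ Subgroup.centralizer ({z} : Set X) = ⊥ := by
    intro y hy
    rw [eq_bot_iff]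
    intro k hk
    rw [Subgroup.mem_bot]
    have hcomm := axb_commute (H := Subgroup.centralizer ({z} : Set X))
      (K := oc y ⊓ Subgroup.centralizer ({z} : Set X)) (y := y)
      (hYsq y hy) (hYC y hy z hzY) inf_le_right (fun k hk => mem_cent.mp (oc_le y hk.1))
      (hKodd y z) (hnormK y z) k hk
    have hk' : (⟨k, hk.2⟩ : ↥(Subgroup.centralizer ({z} : Set X))) = 1 := by
      apply eq_one_of_centralizes hzF
      · rw [Subgroup.orderOf_mk]
        exact oc_orderOf y hk.1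
      · intro q hq
        have h := hcomm (q : X) (Subgroup.mem_map_of_mem _ hq)
        exact Subtype.ext h.eq
    exact congrArg Subtype.val hk'
  -- Step 2: `z` inverts `D_y`, which is abelian
  have hinv : ∀ y ∈ Y, ∀ d ∈ oc y, z * d * z⁻¹ = d⁻¹ := by
    intro y hy
    apply Cfsg.Agent.Lib.Helper34.inverts_of_fixedPointFree (oc y) z hz2
    · intro n hn
      exact oc_conj y (hYC z hzY y hy) hn
    · intro n hn hfix
      have hn' : n ∈ oc y ⊓ Subgroup.centralizer ({z} : Set X) := by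
        refine ⟨hn, mem_cent.mpr ?_⟩
        show n * z = z * n
        calc n * z = (z * n * z⁻¹) * z := by rw [hfix]
          _ = z * n := by group
      rw [h1 y hy, Subgroup.mem_bot] at hn'
      exact hn'
  have hab : ∀ y ∈ Y, ∀ a ∈ oc y, ∀ b ∈ oc y, Commute a b := by
    intro y hy a ha b hb
    have h := hinv y hy (a * b) ((oc y).mul_mem ha hb)
    have e : z * (a * b) * z⁻¹ = (z * a * z⁻¹) * (z * b * z⁻¹) := by group
    rw [e, hinv y hy a ha, hinv y hy b hb, mul_inv_rev] at h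
    have h3 := congrArg (fun x => x⁻¹) h
    simp only [mul_inv_rev, inv_inv] at h3
    exact h3.symm
  -- Step 3: balance
  have hbal : ∀ y ∈ Y, ∀ u ∈ Y, u ≠ 1 → oc y ⊓ Subgroup.centralizer ({u} : Set X) ≤ oc u := by
    intro y hy u hu hu1 k hk
    have hcommQ := axb_commute (H := Subgroup.centralizer ({u} : Set X))
      (K := oc y ⊓ Subgroup.centralizer ({u} : Set X)) (y := y)
      (hYsq y hy) (hYC y hy u hu) inf_le_right (fun k hk => mem_cent.mp (oc_le y hk.1))
      (hKodd y u) (hnormK y u) k hk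
    have hkodd : (orderOf k).Coprime 2 := oc_orderOf y hk.1
    have hcommO : ∀ d ∈ oc u, Commute k d := by
      intro d hd
      have hkz : z * k * z⁻¹ = k⁻¹ := hinv y hy k hk.1
      have hdz : z * d * z⁻¹ = d⁻¹ := hinv u hu d hd
      have hkd : k * d * k⁻¹ ∈ oc u := oc_conj u hk.2 hd
      have h3 : z * (k * d * k⁻¹) * z⁻¹ = (k * d * k⁻¹)⁻¹ := hinv u hu _ hkd
      have e : z * (k * d * k⁻¹) * z⁻¹ = (z * k * z⁻¹) * (z * d * z⁻¹) * (z * k * z⁻¹)⁻¹ := by
        group
      rw [e, hkz, hdz, inv_inv] at h3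
      have e2 : (k * d * k⁻¹)⁻¹ = k * d⁻¹ * k⁻¹ := by group
      rw [e2] at h3
      -- h3 : k⁻¹ * d⁻¹ * k = k * d⁻¹ * k⁻¹
      have h6 : d⁻¹ * (k * k) = (k * k) * d⁻¹ := by
        calc d⁻¹ * (k * k) = k * (k⁻¹ * d⁻¹ * k) * k := by group
          _ = k * (k * d⁻¹ * k⁻¹) * k := by rw [h3]
          _ = (k * k) * d⁻¹ := by group
      have h4 : Commute (k ^ 2) d := by
        rw [pow_two]
        show (k * k) * d = d * (k * k)
        calc (k * k) * d = d * (d⁻¹ * (k * k)) * d := by group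
          _ = d * ((k * k) * d⁻¹) * d := by rw [h6]
          _ = d * (k * k) := by group
      exact commute_of_sq hkodd h4
    have hmem : (⟨k, hk.2⟩ : ↥(Subgroup.centralizer ({u} : Set X))) ∈
        Cfsg.pPrimeCore 2 ↥(Subgroup.centralizer ({u} : Set X)) := by
      apply mem_core_of_centralizes (hE u hu hu1)
      · rw [Subgroup.orderOf_mk]
        exact hkodd
      · intro q hq
        exact Subtype.ext (hcommQ (q : X) (Subgroup.mem_map_of_mem _ hq)).eq
      · intro d hd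
        exact Subtype.ext (hcommO (d : X) (Subgroup.mem_map_of_mem _ hd)).eq
    exact mem_map_subtype_iff.mpr ⟨hk.2, hmem⟩
  -- Step 4: the groups `D_y` commute pairwise
  have hkey : ∀ y ∈ Y, ∀ y' ∈ Y, ∀ w ∈ Y, w ≠ 1 → ∀ a ∈ oc y, ∀ b ∈ oc y',
      Commute a w → Commute b w → Commute a b := by
    intro y hy y' hy' w hw hw1 a ha b hb haw hbw
    exact hab w hw a (hbal y hy w hw hw1 ⟨ha, mem_cent.mpr haw⟩) b
      (hbal y' hy' w hw hw1 ⟨hb, mem_cent.mpr hbw⟩)
  have hdec : ∀ y ∈ Y, ∀ t ∈ Y, ∀ d ∈ oc y, ∃ a ∈ oc y, ∃ b ∈ oc y,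
      a * b = d ^ 2 ∧ Commute a t ∧ Commute b (t * z) := by
    intro y hy t ht d hd
    have htinv : t⁻¹ = t := hYinv t ht
    have htt : t * t = 1 := hYsq t ht
    obtain ⟨c, hcdef⟩ : ∃ c, c = t * d * t⁻¹ := ⟨_, rfl⟩
    have hc : c ∈ oc y := by
      rw [hcdef]
      exact oc_conj y (hYC t ht y hy) hd
    have hdc : d * c = c * d := (hab y hy d hd c hc).eq
    have e1 : t * d = c * t := by
      rw [hcdef]
      group
    have e2 : t * c = d * t := by
      rw [hcdef, htinv]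
      calc t * (t * d * t) = (t * t) * d * t := by group
        _ = d * t := by rw [htt, one_mul]
    have hbm : d * c⁻¹ ∈ oc y := (oc y).mul_mem hd ((oc y).inv_mem hc)
    refine ⟨d * c, (oc y).mul_mem hd hc, d * c⁻¹, hbm, ?_, ?_, ?_⟩
    · rw [pow_two]
      calc (d * c) * (d * c⁻¹) = d * (c * d) * c⁻¹ := by group
        _ = d * (d * c) * c⁻¹ := by rw [hdc]
        _ = d * d := by group
    · show d * c * t = t * (d * c)
      calc d * c * t = c * d * t := by rw [hdc]
        _ = c * (d * t) := by rw [mul_assoc]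
        _ = c * (t * c) := by rw [e2]
        _ = (c * t) * c := by rw [mul_assoc]
        _ = (t * d) * c := by rw [e1]
        _ = t * (d * c) := by rw [mul_assoc]
    · have hzb : z * (d * c⁻¹) * z⁻¹ = (d * c⁻¹)⁻¹ := hinv y hy _ hbm
      have e3 : t * c * t⁻¹ = d := by
        rw [e2]
        group
      have e4 : t * d * t⁻¹ = c := hcdef.symm
      have htb : t * (d * c⁻¹) * t⁻¹ = (d * c⁻¹)⁻¹ := by
        calc t * (d * c⁻¹) * t⁻¹ = (t * d * t⁻¹) * (t * c * t⁻¹)⁻¹ := by group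
          _ = c * d⁻¹ := by rw [e3, e4]
          _ = (d * c⁻¹)⁻¹ := by group
      have hfix : (t * z) * (d * c⁻¹) * (t * z)⁻¹ = d * c⁻¹ := by
        calc (t * z) * (d * c⁻¹) * (t * z)⁻¹ = t * (z * (d * c⁻¹) * z⁻¹) * t⁻¹ := by group
          _ = t * (d * c⁻¹)⁻¹ * t⁻¹ := by rw [hzb]
          _ = (t * (d * c⁻¹) * t⁻¹)⁻¹ := by group
          _ = d * c⁻¹ := by rw [htb, inv_inv]
      show d * c⁻¹ * (t * z) = t * z * (d * c⁻¹)
      calc d * c⁻¹ * (t * z) = ((t * z) * (d * c⁻¹) * (t * z)⁻¹) * (t * z) := by rw [hfix]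
        _ = t * z * (d * c⁻¹) := by group
  have hcomm : ∀ y ∈ Y, y ≠ 1 → ∀ y' ∈ Y, y' ≠ 1 → ∀ d ∈ oc y, ∀ e ∈ oc y', Commute d e := by
    intro y hy hy1 y' hy' hy'1 d hd e he
    have hdodd : (orderOf d).Coprime 2 := oc_orderOf y hd
    have heodd : (orderOf e).Coprime 2 := oc_orderOf y' he
    suffices hsq : Commute (d ^ 2) (e ^ 2) from
      commute_of_sq hdodd (commute_of_sq heodd hsq.symm).symm
    have hyC : ∀ a ∈ oc y, Commute a y := fun a ha => mem_cent.mp (oc_le y ha)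
    have hy'C : ∀ b ∈ oc y', Commute b y' := fun b hb => mem_cent.mp (oc_le y' hb)
    by_cases hcase : y * y' = z
    · -- `y' = y z`: split along a fourth involution `t`
      have hy'eq : y' = y * z := by
        have := eq_inv_mul_of_mul_eq hcase
        rw [hYinv y hy] at this
        exact this
      obtain ⟨t, ht, ht1, hty, htz, htyz⟩ : ∃ t ∈ Y, t ≠ 1 ∧ t ≠ y ∧ t ≠ z ∧ t ≠ y * z := by
        by_contra hcon
        push Not at hcon
        have hsub : (Y : Set X) ⊆ (({1, y, z, y * z} : Finset X) : Set X) := by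
          intro t ht
          by_cases h1' : t = 1
          · simp [h1']
          by_cases h2' : t = y
          · simp [h2']
          by_cases h3' : t = z
          · simp [h3']
          have := hcon t ht h1' h2' h3'
          simp [this]
        have hle := Set.ncard_le_ncard hsub (Finset.finite_toSet _)
        rw [Set.ncard_coe_finset] at hle
        have h4 : ({1, y, z, y * z} : Finset X).card ≤ 4 := Finset.card_le_four
        have hcard : Nat.card ↥Y = (Y : Set X).ncard := Nat.card_coe_set_eq (Y : Set X)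
        omega
      obtain ⟨a1, ha1, b1, hb1, hd2, ha1t, hb1t⟩ := hdec y hy t ht d hd
      obtain ⟨a2, ha2, b2, hb2, he2, ha2t, hb2t⟩ := hdec y' hy' t ht e he
      have htzY : t * z ∈ Y := Y.mul_mem ht hzY
      have htz1 : t * z ≠ 1 := by
        intro h
        apply htz
        have := eq_inv_of_mul_eq_one_left h
        rwa [hYinv z hzY] at this
      have c11 : Commute a1 a2 := hkey y hy y' hy' t ht ht1 a1 ha1 a2 ha2 ha1t ha2t
      have c22 : Commute b1 b2 := hkey y hy y' hy' (t * z) htzY htz1 b1 hb1 b2 hb2 hb1t hb2t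
      have c12 : Commute a1 b2 := by
        have hw : y * t ∈ Y := Y.mul_mem hy ht
        have hw1 : y * t ≠ 1 := by
          intro h
          apply hty
          have := eq_inv_of_mul_eq_one_right h
          rwa [hYinv y hy] at this
        have hid : y' * (t * z) = y * t := by
          calc y' * (t * z) = (y * z) * (t * z) := by rw [hy'eq]
            _ = y * ((z * t) * z) := by group
            _ = y * ((t * z) * z) := by rw [hYc z hzY t ht]
            _ = y * t * (z * z) := by group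
            _ = y * t := by rw [hz2, mul_one]
        have hb2w : Commute b2 (y * t) := by
          rw [← hid]
          exact (hy'C b2 hb2).mul_right hb2t
        exact hkey y hy y' hy' (y * t) hw hw1 a1 ha1 b2 hb2 ((hyC a1 ha1).mul_right ha1t) hb2w
      have c21 : Commute b1 a2 := by
        have hw : y * (t * z) ∈ Y := Y.mul_mem hy htzY
        have hw1 : y * (t * z) ≠ 1 := by
          intro h
          apply htyz
          have h5 := eq_inv_of_mul_eq_one_right h
          rw [hYinv y hy] at h5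
          have h6 := eq_mul_inv_of_mul_eq h5
          rwa [hYinv z hzY] at h6
        have hid : y' * t = y * (t * z) := by
          rw [hy'eq, mul_assoc, hYc z hzY t ht]
        have ha2w : Commute a2 (y * (t * z)) := by
          rw [← hid]
          exact (hy'C a2 ha2).mul_right ha2t
        exact hkey y hy y' hy' (y * (t * z)) hw hw1 b1 hb1 a2 ha2
          ((hyC b1 hb1).mul_right hb1t) ha2w
      rw [← hd2, ← he2]
      exact ((c11.mul_right c12).mul_left (c21.mul_right c22))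
    · -- `y y' ≠ z`: split `d` along `y'` and `e` along `y`
      obtain ⟨a1, ha1, b1, hb1, hd2, ha1t, hb1t⟩ := hdec y hy y' hy' d hd
      obtain ⟨a2, ha2, b2, hb2, he2, ha2t, hb2t⟩ := hdec y' hy' y hy e he
      have c11 : Commute a1 a2 := hkey y hy y' hy' y hy hy1 a1 ha1 a2 ha2 (hyC a1 ha1) ha2t
      have c12 : Commute a1 b2 := hkey y hy y' hy' y' hy' hy'1 a1 ha1 b2 hb2 ha1t (hy'C b2 hb2)
      have c21 : Commute b1 a2 := hkey y hy y' hy' y hy hy1 b1 hb1 a2 ha2 (hyC b1 hb1) ha2t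
      have c22 : Commute b1 b2 := by
        have hw : y * (y' * z) ∈ Y := Y.mul_mem hy (Y.mul_mem hy' hzY)
        have hw1 : y * (y' * z) ≠ 1 := by
          intro h
          apply hcase
          rw [← mul_assoc] at h
          have := eq_inv_of_mul_eq_one_left h
          rwa [hYinv z hzY] at this
        have hid : y' * (y * z) = y * (y' * z) := by
          rw [← mul_assoc, hYc y' hy' y hy, mul_assoc]
        have hb2w : Commute b2 (y * (y' * z)) := by
          rw [← hid]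
          exact (hy'C b2 hb2).mul_right hb2t
        exact hkey y hy y' hy' (y * (y' * z)) hw hw1 b1 hb1 b2 hb2
          ((hyC b1 hb1).mul_right hb1t) hb2w
      rw [← hd2, ← he2]
      exact ((c11.mul_right c12).mul_left (c21.mul_right c22))
  -- Step 5: the join is commutative, of odd order
  have hWc : ∀ a ∈ (⨆ y : {y : X // y ∈ Y ∧ y ≠ 1}, oc (y : X)),
      ∀ b ∈ (⨆ y : {y : X // y ∈ Y ∧ y ≠ 1}, oc (y : X)), Commute a b := by
    have hgen : ∀ (i : {y : X // y ∈ Y ∧ y ≠ 1}) (d : X), d ∈ oc (i : X) →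
        (⨆ y : {y : X // y ∈ Y ∧ y ≠ 1}, oc (y : X)) ≤ Subgroup.centralizer ({d} : Set X) := by
      intro i d hd
      apply iSup_le
      intro j e he
      exact mem_cent.mpr (hcomm j.1 j.2.1 j.2.2 i.1 i.2.1 i.2.2 e he d hd)
    intro a ha b hb
    have hle : (⨆ y : {y : X // y ∈ Y ∧ y ≠ 1}, oc (y : X)) ≤
        Subgroup.centralizer ({a} : Set X) := by
      apply iSup_le
      intro i d hd
      exact mem_cent.mpr (mem_cent.mp (hgen i d hd ha)).symm
    exact (mem_cent.mp (hle hb)).symm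
  have hWodd : ∀ a ∈ (⨆ y : {y : X // y ∈ Y ∧ y ≠ 1}, oc (y : X)), Odd (orderOf a) := by
    intro a ha
    have hboth : a ∈ (⨆ y : {y : X // y ∈ Y ∧ y ≠ 1}, oc (y : X)) ∧ Odd (orderOf a) := by
      refine Subgroup.iSup_induction (fun y : {y : X // y ∈ Y ∧ y ≠ 1} => oc (y : X))
        (C := fun x => x ∈ (⨆ y : {y : X // y ∈ Y ∧ y ≠ 1}, oc (y : X)) ∧ Odd (orderOf x))
        ha ?_ ?_ ?_
      · intro i d hd
        exact ⟨Subgroup.mem_iSup_of_mem i hd, (oc_orderOf (i : X) hd).odd_of_right⟩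
      · refine ⟨Subgroup.one_mem _, ?_⟩
        rw [orderOf_one]
        exact odd_one
      · rintro a b ⟨ha, hao⟩ ⟨hb, hbo⟩
        refine ⟨Subgroup.mul_mem _ ha hb, ?_⟩
        have hd := (hWc a ha b hb).orderOf_mul_dvd_lcm
        exact Odd.of_dvd_nat (hao.mul hbo) (hd.trans (Nat.lcm_dvd_mul _ _))
    exact hboth.2
  have hOddW : Odd (Nat.card ↥(⨆ y : {y : X // y ∈ Y ∧ y ≠ 1}, oc (y : X))) := by
    by_contra hcon
    rw [Nat.not_odd_iff_even] at hcon
    have h2 : 2 ∣ Nat.card ↥(⨆ y : {y : X // y ∈ Y ∧ y ≠ 1}, oc (y : X)) := hcon.two_dvd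
    obtain ⟨g, hg⟩ := exists_prime_orderOf_dvd_card'
      (G := ↥(⨆ y : {y : X // y ∈ Y ∧ y ≠ 1}, oc (y : X))) 2 h2
    have h := hWodd (g : X) g.2
    rw [Subgroup.orderOf_coe, hg] at h
    exact absurd h (by decide)
  -- Step 6: invariance under `N_X(Y)`
  have hconj : ∀ g ∈ Subgroup.normalizer (Y : Set X),
      ∀ w ∈ (⨆ y : {y : X // y ∈ Y ∧ y ≠ 1}, oc (y : X)),
        g * w * g⁻¹ ∈ (⨆ y : {y : X // y ∈ Y ∧ y ≠ 1}, oc (y : X)) := by
    intro g hg w hw
    refine Subgroup.iSup_induction (fun y : {y : X // y ∈ Y ∧ y ≠ 1} => oc (y : X))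
      (C := fun x => g * x * g⁻¹ ∈ (⨆ y : {y : X // y ∈ Y ∧ y ≠ 1}, oc (y : X))) hw ?_ ?_ ?_
    · intro i d hd
      have hgy : g * (i : X) * g⁻¹ ∈ Y := (Subgroup.mem_normalizer_iff.mp hg _).mp i.2.1
      have hgy1 : g * (i : X) * g⁻¹ ≠ 1 := by
        intro h
        apply i.2.2
        have e : (i : X) = g⁻¹ * (g * (i : X) * g⁻¹) * g := by group
        rw [e, h]
        group
      have hle : (oc (i : X)).map (MulAut.conj g).toMonoidHom ≤ oc (g * (i : X) * g⁻¹) := by
        apply oc_max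
        · rintro _ ⟨d, hd, rfl⟩
          apply mem_cent.mpr
          have hdy := (mem_cent.mp (oc_le _ hd)).eq
          show (MulAut.conj g) d * (g * (i : X) * g⁻¹) = (g * (i : X) * g⁻¹) * (MulAut.conj g) d
          rw [MulAut.conj_apply]
          calc g * d * g⁻¹ * (g * (i : X) * g⁻¹) = g * (d * (i : X)) * g⁻¹ := by group
            _ = g * ((i : X) * d) * g⁻¹ := by rw [hdy]
            _ = g * (i : X) * g⁻¹ * (g * d * g⁻¹) := by group
        · rintro c hc _ ⟨d, hd, rfl⟩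
          have hc' : g⁻¹ * c * g ∈ Subgroup.centralizer ({(i : X)} : Set X) := by
            apply mem_cent.mpr
            have hcc := (mem_cent.mp hc).eq
            show g⁻¹ * c * g * (i : X) = (i : X) * (g⁻¹ * c * g)
            calc g⁻¹ * c * g * (i : X) = g⁻¹ * (c * (g * (i : X) * g⁻¹)) * g := by group
              _ = g⁻¹ * ((g * (i : X) * g⁻¹) * c) * g := by rw [hcc]
              _ = (i : X) * (g⁻¹ * c * g) := by group
          have hmem := oc_conj _ hc' hd
          refine ⟨(g⁻¹ * c * g) * d * (g⁻¹ * c * g)⁻¹, hmem, ?_⟩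
          show (MulAut.conj g) ((g⁻¹ * c * g) * d * (g⁻¹ * c * g)⁻¹) = c * (MulAut.conj g) d * c⁻¹
          rw [MulAut.conj_apply, MulAut.conj_apply]
          group
        · rw [Subgroup.card_map_of_injective (MulAut.conj g).injective]
          exact oc_odd _
      have hmem : g * d * g⁻¹ ∈ oc (g * (i : X) * g⁻¹) := hle ⟨d, hd, by
        show (MulAut.conj g) d = g * d * g⁻¹
        rw [MulAut.conj_apply]⟩
      exact Subgroup.mem_iSup_of_mem
        (⟨g * (i : X) * g⁻¹, hgy, hgy1⟩ : {y : X // y ∈ Y ∧ y ≠ 1}) hmem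
    · have e : g * 1 * g⁻¹ = 1 := by group
      rw [e]
      exact Subgroup.one_mem _
    · intro a b ha hb
      have e : g * (a * b) * g⁻¹ = (g * a * g⁻¹) * (g * b * g⁻¹) := by group
      rw [e]
      exact Subgroup.mul_mem _ ha hb
  refine ⟨hOddW, ?_⟩
  intro g hg
  rw [Subgroup.mem_normalizer_iff]
  intro w
  constructor
  · exact hconj g hg w
  · intro h
    have h' := hconj g⁻¹ (Subgroup.inv_mem _ hg) _ h
    have e : g⁻¹ * (g * w * g⁻¹) * g⁻¹⁻¹ = w := by group
    rwa [e] at h'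

end Ambient

end Cfsg.Agent.Lib.Helper12.S2924Core
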